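import Groth.Agent.Lib.Helper19.QStk.Colim
import Groth.Agent.S12496
import Groth.Agent.Lib.Helper21.AffDesc
import Groth.Prelude.Def_AlgSt5

/-!
# Torsors under an affine group are affine over the base; small covering families (helper19)
-/

set_option autoImplicit false
set_option backward.isDefEq.respectTransparency false
set_option backward.isDefEq.respectTransparency.types false

universe u

open CategoryTheory CategoryTheory.Limits MonoidalCategory CartesianMonoidalCategory MonObj GrpObj
  AlgebraicGeometry Opposite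
open AlgSt

namespace Groth.Agent.Helper19.QStk

theorem exists_small_subfamily {Y : Scheme.{u}} {R : Presieve Y} (hR : R ∈ Scheme.fppfPrecoverage Y) :
    ∃ (U : Y → Scheme.{u}) (g : ∀ y, U y ⟶ Y), (∀ y, R (g y)) ∧
      Presieve.ofArrows U g ∈ Scheme.fppfPrecoverage Y := by
  change R ∈ Scheme.precoverage _ Y at hR
  have h1 := (Presieve.mem_comap_jointlySurjectivePrecoverage_iff Scheme.forget).1 hR.1
  choose U g hg hx using h1
  refine ⟨U, g, hg, ?_⟩
  change Presieve.ofArrows U g ∈ Scheme.precoverage _ Y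
  rw [Scheme.ofArrows_mem_precoverage_iff]
  exact ⟨fun y => ⟨y, hx y⟩, fun y => hR.2 (hg y)⟩

variable {S : Scheme.{u}}

theorem exists_small_family {T : Over S} {R : Sieve T} (hR : R ∈ AlgSp.J S T) :
    ∃ (I : Type u) (V : I → Over S) (f : ∀ i, V i ⟶ T), (∀ i, R (f i)) ∧
      Presieve.ofArrows (fun i => (V i).left) (fun i => (f i).left) ∈ Scheme.fppfPrecoverage T.left ∧
      Sieve.ofArrows V f ∈ AlgSp.J S T := by
  rw [AlgSp.J_eq, GrothendieckTopology.mem_over_iff] at hR
  obtain ⟨R₀, hR₀, hle⟩ := Precoverage.mem_toGrothendieck_iff_of_isStableUnderComposition.1 hR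
  obtain ⟨U, g, hg, hcov⟩ := exists_small_subfamily hR₀
  refine ⟨T.left, fun y => Over.mk (g y ≫ T.hom), fun y => Over.homMk (g y) rfl, fun y => ?_, hcov, ?_⟩
  · have := hle _ _ (hg y)
    rw [Sieve.overEquiv_iff] at this
    exact this
  · rw [AlgSp.J_eq, GrothendieckTopology.mem_over_iff]
    refine (Scheme.fppfTopology).superset_covering ?_ (Precoverage.generate_mem_toGrothendieck hcov)
    rintro Z c ⟨Y, a, b, ⟨y⟩, rfl⟩
    rw [Sieve.overEquiv_iff]
    have h0 : (Sieve.ofArrows (fun y => Over.mk (g y ≫ T.hom))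
        (fun y => (Over.homMk (g y) rfl : Over.mk (g y ≫ T.hom) ⟶ T)))
        ((Over.homMk a rfl : Over.mk (a ≫ g y ≫ T.hom) ⟶ Over.mk (g y ≫ T.hom)) ≫
          (Over.homMk (g y) rfl : Over.mk (g y ≫ T.hom) ⟶ T)) :=
      (Sieve.ofArrows _ _).downward_closed (Sieve.ofArrows_mk _ _ y) _
    convert h0 using 2
    · exact Category.assoc _ _ _
    · first
      | rfl
      | (apply Over.OverMorphism.ext; simp)

variable {G : Over S} [GrpObj G] {X : Over S} {aX : AlgGrp.Action G X} {K : Precoverage Scheme.{u}}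

/-- a section trivialises the torsor. -/
theorem isPullback_triv (A : QuotObj K G aX) {Y : Over S} (s : Y ⟶ A.P) :
    IsPullback ((G ◁ s) ≫ A.act.act) (snd G Y) A.π (s ≫ A.π) :=
  (isPullback_whiskerLeft G s).paste_horiz A.cart

theorem isAffineHom_pullback_of_section [IsAffineHom G.hom] (A : QuotObj K G aX) {Y : Scheme.{u}}
    (g : Y ⟶ A.base.left) (s : Y ⟶ A.P.left) (hs : s ≫ A.π.left = g) :
    IsAffineHom (pullback.snd A.π.left g) := by
  let YS : Over S := Over.mk (g ≫ A.base.hom)
  let sO : YS ⟶ A.P := Over.homMk s (by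
    change s ≫ A.P.hom = g ≫ A.base.hom
    rw [← hs, Category.assoc, Over.w A.π])
  have sq := (isPullback_triv A sO).map (Over.forget S)
  have hg : (Over.forget S).map (sO ≫ A.π) = g := hs
  rw [hg] at sq
  have e : pullback.snd A.π.left g = sq.isoPullback.inv ≫ (Over.forget S).map (snd G YS) := by
    rw [Iso.eq_inv_comp]
    exact sq.isoPullback_hom_snd
  have haff : IsAffineHom ((Over.forget S).map (snd G YS)) := by
    change IsAffineHom (snd G YS).left
    rw [Over.snd_left]
    exact MorphismProperty.pullback_snd (P := @IsAffineHom) _ _ inferInstance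
  rw [e]
  infer_instance

theorem isAffineHom_π [IsAffineHom G.hom] (A : QuotObj Scheme.fppfPrecoverage G aX) :
    IsAffineHom A.π.left := by
  obtain ⟨R, hR, hsec⟩ := A.loc
  obtain ⟨U, g, hg, hcov⟩ := exists_small_subfamily hR
  let 𝒰 : Scheme.Cover Scheme.fpqcPrecoverage A.base.left :=
    { I₀ := A.base.left
      X := U
      f := g
      mem₀ := Scheme.fppfPrecoverage_le_fpqcPrecoverage _ hcov }
  refine Groth.Agent.S12496.result (@IsAffineHom) Groth.Agent.Helper21.AffDesc.affine A.π.left 𝒰 ?_
  intro y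
  obtain ⟨s, hs⟩ := hsec (g y) (hg y)
  exact isAffineHom_pullback_of_section A (g y) s hs

end Groth.Agent.Helper19.QStk
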