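import Groth.Agent.Lib.Helper19.QStk.Colim

/-!
# A locally cartesian action square is cartesian (helper19)
-/

set_option autoImplicit false

universe u

open CategoryTheory CategoryTheory.Limits MonoidalCategory CartesianMonoidalCategory AlgebraicGeometry Opposite

namespace Groth.Agent.Helper19.QStk

theorem isPullback_of_existsUnique {C : Type*} [Category C] {A B D E : C} (f : A ⟶ B) (g : A ⟶ D)
    (h : B ⟶ E) (k : D ⟶ E) (w : f ≫ h = g ≫ k)
    (H : ∀ {W : C} (u : W ⟶ B) (v : W ⟶ D), u ≫ h = v ≫ k → ∃! l : W ⟶ A, l ≫ f = u ∧ l ≫ g = v) :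
    IsPullback f g h k := by
  refine ⟨⟨w⟩, ⟨PullbackCone.IsLimit.mk w (fun s => (H s.fst s.snd s.condition).choose) ?_ ?_ ?_⟩⟩
  · intro s
    exact (H s.fst s.snd s.condition).choose_spec.1.1
  · intro s
    exact (H s.fst s.snd s.condition).choose_spec.1.2
  · intro s m h1 h2
    exact (H s.fst s.snd s.condition).choose_spec.2 m ⟨h1, h2⟩

variable {S : Scheme.{u}}

/-- the canonical cartesian family. -/
noncomputable def CartFam.canonical {T Q : Over S} (R : Sieve T) (q : Q ⟶ T) : CartFam R q :=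
  CartFam.mk (fun b _ => pullback q b.hom) (fun b _ => pullback.fst q b.hom)
    (fun b _ => pullback.snd q b.hom) (fun b _ => IsPullback.of_hasPullback q b.hom)

theorem cart_of_local {G : Over S} {T P : Over S} {R : Sieve T} (hR : R ∈ AlgSp.J S T) {q : P ⟶ T}
    (F : CartFam R q) (act : G ⊗ P ⟶ P) (hact : act ≫ q = snd G P ≫ q)
    (actb : ∀ b hb, G ⊗ F.obj b hb ⟶ F.obj b hb)
    (hcart : ∀ b hb, IsPullback (actb b hb) (snd G _) (F.p b hb) (F.p b hb))
    (hcomp : ∀ b hb, (G ◁ F.ι b hb) ≫ act = actb b hb ≫ F.ι b hb) :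
    IsPullback act (snd G P) q q := by
  apply isPullback_of_existsUnique _ _ _ _ hact
  intro W u v huv
  let FW := CartFam.canonical R (u ≫ q)
  have hub : ∀ b hb, ∃ ub : FW.obj b hb ⟶ F.obj b hb,
      ub ≫ F.ι b hb = FW.ι b hb ≫ u ∧ ub ≫ F.p b hb = FW.p b hb := fun b hb =>
    ⟨(F.sq b hb).lift (FW.ι b hb ≫ u) (FW.p b hb) (by rw [Category.assoc, (FW.sq b hb).w]),
      (F.sq b hb).lift_fst _ _ _, (F.sq b hb).lift_snd _ _ _⟩
  have hvb : ∀ b hb, ∃ vb : FW.obj b hb ⟶ F.obj b hb,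
      vb ≫ F.ι b hb = FW.ι b hb ≫ v ∧ vb ≫ F.p b hb = FW.p b hb := fun b hb =>
    ⟨(F.sq b hb).lift (FW.ι b hb ≫ v) (FW.p b hb) (by
        rw [Category.assoc, ← huv, (FW.sq b hb).w]),
      (F.sq b hb).lift_fst _ _ _, (F.sq b hb).lift_snd _ _ _⟩
  choose ub hub1 hub2 using hub
  choose vb hvb1 hvb2 using hvb
  have hgb : ∀ b hb, ∃ gb : FW.obj b hb ⟶ G ⊗ F.obj b hb,
      gb ≫ actb b hb = ub b hb ∧ gb ≫ snd G _ = vb b hb := fun b hb =>
    ⟨(hcart b hb).lift (ub b hb) (vb b hb) (by rw [hub2, hvb2]),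
      (hcart b hb).lift_fst _ _ _, (hcart b hb).lift_snd _ _ _⟩
  choose gb hgb1 hgb2 using hgb
  have htrans : ∀ (b b' : Over T) (hb : R b.hom) (hb' : R b'.hom) (m : b' ⟶ b)
      (τ : FW.obj b' hb' ⟶ FW.obj b hb), τ ≫ FW.ι b hb = FW.ι b' hb' →
      τ ≫ FW.p b hb = FW.p b' hb' ≫ m.left →
      τ ≫ gb b hb ≫ fst G _ = gb b' hb' ≫ fst G _ := by
    intro b b' hb hb' m τ h1 h2
    let τP : F.obj b' hb' ⟶ F.obj b hb :=
      (F.sq b hb).lift (F.ι b' hb') (F.p b' hb' ≫ m.left) (by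
        rw [(F.sq b' hb').w, Category.assoc, Over.w m])
    have t1 : τP ≫ F.ι b hb = F.ι b' hb' := (F.sq b hb).lift_fst _ _ _
    have t2 : τP ≫ F.p b hb = F.p b' hb' ≫ m.left := (F.sq b hb).lift_snd _ _ _
    have nat : (G ◁ τP) ≫ actb b hb = actb b' hb' ≫ τP := by
      apply (F.sq b hb).hom_ext
      · rw [Category.assoc, ← hcomp, ← MonoidalCategory.whiskerLeft_comp_assoc, t1, hcomp,
          Category.assoc, t1]
      · have w' := (hcart b' hb').w
        calc ((G ◁ τP) ≫ actb b hb) ≫ F.p b hb = (G ◁ τP) ≫ snd G _ ≫ F.p b hb := by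
              rw [Category.assoc, (hcart b hb).w]
          _ = snd G _ ≫ τP ≫ F.p b hb := by rw [whiskerLeft_snd_assoc]
          _ = (snd G _ ≫ F.p b' hb') ≫ m.left := by rw [t2, Category.assoc]
          _ = (actb b' hb' ≫ F.p b' hb') ≫ m.left := by rw [w']
          _ = (actb b' hb' ≫ τP) ≫ F.p b hb := by rw [Category.assoc, Category.assoc, t2]
    have e1 : τ ≫ ub b hb = ub b' hb' ≫ τP := by
      apply (F.sq b hb).hom_ext
      · rw [Category.assoc, hub1, ← Category.assoc, h1, Category.assoc, t1, hub1]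
      · rw [Category.assoc, hub2, h2, Category.assoc, t2, ← Category.assoc, hub2]
    have e2 : τ ≫ vb b hb = vb b' hb' ≫ τP := by
      apply (F.sq b hb).hom_ext
      · rw [Category.assoc, hvb1, ← Category.assoc, h1, Category.assoc, t1, hvb1]
      · rw [Category.assoc, hvb2, h2, Category.assoc, t2, ← Category.assoc, hvb2]
    have e3 : τ ≫ gb b hb = gb b' hb' ≫ (G ◁ τP) := by
      apply (hcart b hb).hom_ext
      · rw [Category.assoc, hgb1, Category.assoc, nat, ← Category.assoc, hgb1, e1]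
      · rw [Category.assoc, hgb2, Category.assoc, whiskerLeft_snd, ← Category.assoc, hgb2, e2]
    rw [← Category.assoc, e3, Category.assoc, whiskerLeft_fst]
  obtain ⟨γ, hγ⟩ := FW.desc hR (Z := G) (fun b hb => gb b hb ≫ fst G _)
    (fun b b' hb hb' m τ h1 h2 => htrans b b' hb hb' m τ h1 h2)
  have hloc : ∀ b hb, FW.ι b hb ≫ lift γ v = gb b hb ≫ (G ◁ F.ι b hb) := by
    intro b hb
    apply CartesianMonoidalCategory.hom_ext
    · rw [Category.assoc, lift_fst, hγ, Category.assoc, whiskerLeft_fst]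
    · rw [Category.assoc, lift_snd, Category.assoc, whiskerLeft_snd, ← Category.assoc, hgb2, hvb1]
  refine ⟨lift γ v, ⟨?_, lift_snd _ _⟩, ?_⟩
  · apply FW.joint_epi hR
    intro b hb
    rw [← Category.assoc, hloc, Category.assoc, hcomp, ← Category.assoc, hgb1, hub1]
  · rintro l ⟨hl1, hl2⟩
    apply CartesianMonoidalCategory.hom_ext
    · rw [lift_fst]
      apply FW.joint_epi hR
      intro b hb
      rw [hγ]
      have hk : lift (FW.ι b hb ≫ l ≫ fst G P) (vb b hb) ≫ (G ◁ F.ι b hb) = FW.ι b hb ≫ l := by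
        apply CartesianMonoidalCategory.hom_ext
        · rw [Category.assoc, whiskerLeft_fst, lift_fst, Category.assoc]
        · rw [Category.assoc, whiskerLeft_snd, lift_snd_assoc, hvb1, Category.assoc, hl2]
      have e : lift (FW.ι b hb ≫ l ≫ fst G P) (vb b hb) = gb b hb := by
        apply (hcart b hb).hom_ext
        · rw [hgb1]
          apply (F.sq b hb).hom_ext
          · rw [Category.assoc, ← hcomp, ← Category.assoc, hk, Category.assoc, hl1, hub1]
          · rw [Category.assoc, (hcart b hb).w, lift_snd_assoc, hvb2, hub2]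
        · rw [lift_snd, hgb2]
      rw [← e, lift_fst]
    · rw [lift_snd, hl2]

end Groth.Agent.Helper19.QStk
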