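import Mathlib
import Groth.Prelude.Def_AlgSp

/-!
# Gluing morphisms of `S`-schemes along fppf covering sieves (helper19)

`Q` over `T`, with a cartesian family over a covering sieve of `T`, is the colimit of the family.
-/

set_option autoImplicit false

universe u

open CategoryTheory CategoryTheory.Limits MonoidalCategory CartesianMonoidalCategory AlgebraicGeometry Opposite

namespace Groth.Agent.Helper19.QStk

variable {S : Scheme.{u}}

theorem hom_ext_of_sieve {Y Z : Over S} (R : Sieve Y) (hR : R ∈ AlgSp.J S Y) (h h' : Y ⟶ Z)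
    (H : ∀ ⦃W : Over S⦄ (w : W ⟶ Y), R w → w ≫ h = w ≫ h') : h = h' := by
  have hs : Presieve.IsSheafFor (yoneda.obj Z) R.arrows :=
    (GrothendieckTopology.Subcanonical.isSheaf_of_isRepresentable (J := AlgSp.J S) (yoneda.obj Z)) R hR
  exact hs.isSeparatedFor.ext (fun W w hw => H w hw)

theorem glue_hom {Y Z : Over S} (R : Sieve Y) (hR : R ∈ AlgSp.J S Y)
    (e : ∀ ⦃W : Over S⦄ (w : W ⟶ Y), R w → (W ⟶ Z))
    (he : ∀ ⦃W W' : Over S⦄ (g : W' ⟶ W) (w : W ⟶ Y) (hw : R w),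
      e (g ≫ w) (R.downward_closed hw g) = g ≫ e w hw) :
    ∃ h : Y ⟶ Z, ∀ ⦃W : Over S⦄ (w : W ⟶ Y) (hw : R w), w ≫ h = e w hw := by
  have hs : Presieve.IsSheafFor (yoneda.obj Z) R.arrows :=
    (GrothendieckTopology.Subcanonical.isSheaf_of_isRepresentable (J := AlgSp.J S) (yoneda.obj Z)) R hR
  let x : Presieve.FamilyOfElements (yoneda.obj Z) R.arrows := fun W w hw => e w hw
  have hx : x.Compatible := by
    rw [Presieve.compatible_iff_sieveCompatible]
    intro W W' w g hw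
    exact he g w hw
  exact ⟨hs.amalgamate x hx, fun W w hw => hs.valid_glue hx w hw⟩

/-- the product square. -/
theorem isPullback_whiskerLeft (Y : Over S) {A B : Over S} (f : A ⟶ B) :
    IsPullback (Y ◁ f) (snd Y A) (snd Y B) f := by
  refine ⟨⟨by simp⟩, ⟨PullbackCone.IsLimit.mk _ (fun c => lift (c.fst ≫ fst Y B) c.snd) ?_ ?_ ?_⟩⟩
  · intro c
    apply CartesianMonoidalCategory.hom_ext
    · simp
    · simp [c.condition]
  · intro c
    simp
  · intro c m h1 h2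
    apply CartesianMonoidalCategory.hom_ext
    · rw [lift_fst, ← h1, Category.assoc, whiskerLeft_fst]
    · rw [lift_snd, ← h2]

/-- a cartesian family over a sieve. -/
structure CartFam {T Q : Over S} (R : Sieve T) (q : Q ⟶ T) where
  obj : ∀ (b : Over T), R b.hom → Over S
  ι : ∀ b hb, obj b hb ⟶ Q
  p : ∀ b hb, obj b hb ⟶ b.left
  sq : ∀ b hb, IsPullback (ι b hb) (p b hb) q b.hom

namespace CartFam

variable {T Q : Over S} {R : Sieve T} {q : Q ⟶ T} (F : CartFam R q)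

/-- product with a fixed object. -/
noncomputable def whisker (Y : Over S) : CartFam R (snd Y Q ≫ q) where
  obj b hb := Y ⊗ F.obj b hb
  ι b hb := Y ◁ F.ι b hb
  p b hb := snd Y _ ≫ F.p b hb
  sq b hb := (isPullback_whiskerLeft Y (F.ι b hb)).paste_vert (F.sq b hb)

theorem mem (b : Over T) (hb : R b.hom) : R (F.ι b hb ≫ q) := by
  rw [(F.sq b hb).w]
  exact R.downward_closed hb _

include F in
theorem joint_epi (hR : R ∈ AlgSp.J S T) {Z : Over S} (h h' : Q ⟶ Z)
    (H : ∀ b hb, F.ι b hb ≫ h = F.ι b hb ≫ h') : h = h' := by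
  refine hom_ext_of_sieve (R.pullback q) ((AlgSp.J S).pullback_stable q hR) h h' ?_
  intro W w hw
  have hw' : R (w ≫ q) := hw
  have e : w = (F.sq (Over.mk (w ≫ q)) hw').lift w (𝟙 W) (by simp) ≫ F.ι _ hw' :=
    ((F.sq (Over.mk (w ≫ q)) hw').lift_fst _ _ _).symm
  rw [e, Category.assoc, Category.assoc, H]

include F in
theorem desc (hR : R ∈ AlgSp.J S T) {Z : Over S} (ε : ∀ b hb, F.obj b hb ⟶ Z)
    (hε : ∀ (b b' : Over T) (hb : R b.hom) (hb' : R b'.hom) (m : b' ⟶ b) (τ : F.obj b' hb' ⟶ F.obj b hb),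
      τ ≫ F.ι b hb = F.ι b' hb' → τ ≫ F.p b hb = F.p b' hb' ≫ m.left → τ ≫ ε b hb = ε b' hb') :
    ∃ h : Q ⟶ Z, ∀ b hb, F.ι b hb ≫ h = ε b hb := by
  have wd : ∀ {W : Over S} (w : W ⟶ Q) (hw : R (w ≫ q)) (b : Over T) (hb : R b.hom)
      (t : W ⟶ b.left) (ht : w ≫ q = t ≫ b.hom),
      (F.sq b hb).lift w t ht ≫ ε b hb =
        (F.sq (Over.mk (w ≫ q)) hw).lift w (𝟙 W) (by simp) ≫ ε (Over.mk (w ≫ q)) hw := by
    intro W w hw b hb t ht
    let m : Over.mk (w ≫ q) ⟶ b := Over.homMk t ht.symm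
    have hc : F.ι (Over.mk (w ≫ q)) hw ≫ q = (F.p (Over.mk (w ≫ q)) hw ≫ t) ≫ b.hom := by
      rw [(F.sq (Over.mk (w ≫ q)) hw).w, Category.assoc, ← ht]
      rfl
    let τ : F.obj (Over.mk (w ≫ q)) hw ⟶ F.obj b hb :=
      (F.sq b hb).lift (F.ι (Over.mk (w ≫ q)) hw) (F.p (Over.mk (w ≫ q)) hw ≫ t) hc
    have h1 : τ ≫ F.ι b hb = F.ι (Over.mk (w ≫ q)) hw := (F.sq b hb).lift_fst _ _ _
    have h2 : τ ≫ F.p b hb = F.p (Over.mk (w ≫ q)) hw ≫ m.left := (F.sq b hb).lift_snd _ _ _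
    rw [← hε b (Over.mk (w ≫ q)) hb hw m τ h1 h2, ← Category.assoc]
    congr 1
    apply (F.sq b hb).hom_ext
    · rw [Category.assoc, h1, IsPullback.lift_fst, IsPullback.lift_fst]
    · rw [Category.assoc, h2, ← Category.assoc, IsPullback.lift_snd, IsPullback.lift_snd]
      simp [m]
  obtain ⟨h, hh⟩ := glue_hom (Z := Z) (R.pullback q) ((AlgSp.J S).pullback_stable q hR)
    (fun W w hw => (F.sq (Over.mk (w ≫ q)) hw).lift w (𝟙 W) (by simp) ≫ ε (Over.mk (w ≫ q)) hw) (by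
      intro W W' g w hw
      have hw' : R (w ≫ q) := hw
      have hgw : R ((g ≫ w) ≫ q) := by
        rw [Category.assoc]; exact R.downward_closed hw' g
      have := wd (g ≫ w) hgw (Over.mk (w ≫ q)) hw' g (Category.assoc _ _ _)
      change (F.sq (Over.mk ((g ≫ w) ≫ q)) hgw).lift (g ≫ w) (𝟙 W') _ ≫ ε (Over.mk ((g ≫ w) ≫ q)) hgw = _
      rw [← this, ← Category.assoc]
      congr 1
      apply (F.sq (Over.mk (w ≫ q)) hw').hom_ext
      · rw [IsPullback.lift_fst, Category.assoc, IsPullback.lift_fst]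
      · rw [IsPullback.lift_snd, Category.assoc, IsPullback.lift_snd]
        simp)
  refine ⟨h, fun b hb => ?_⟩
  have hm : R (F.ι b hb ≫ q) := F.mem b hb
  rw [hh (F.ι b hb) hm, ← wd (F.ι b hb) hm b hb (F.p b hb) (F.sq b hb).w]
  have : (F.sq b hb).lift (F.ι b hb) (F.p b hb) (F.sq b hb).w = 𝟙 _ := by
    apply (F.sq b hb).hom_ext
    · rw [IsPullback.lift_fst, Category.id_comp]
    · rw [IsPullback.lift_snd, Category.id_comp]
  rw [this, Category.id_comp]

end CartFam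

end Groth.Agent.Helper19.QStk
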