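import Groth.Agent.Lib.Helper19.QStk.Uniq
import Groth.Prelude.Def_DescFam

/-!
# The scheme descent datum of a descent datum of torsors (helper19)
-/

set_option autoImplicit false
set_option backward.isDefEq.respectTransparency false
set_option backward.isDefEq.respectTransparency.types false

universe u

open CategoryTheory CategoryTheory.Limits MonoidalCategory CartesianMonoidalCategory MonObj GrpObj
  AlgebraicGeometry Opposite
open AlgSt FibCat Stk

namespace Groth.Agent.Helper19.QStk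

open Groth.Agent.Helper19.StkElem

variable {S : Scheme.{u}} {G : Over S} [GrpObj G] {X : Over S} {aX : AlgGrp.Action G X}
variable {K : Precoverage Scheme.{u}}
variable {T : Over S}

section norm

variable {R : Sieve T} (Ψ : sieveCat R ⥤ᵇ QuotSt K G aX)

/-- the normalised projection, on schemes. -/
noncomputable def πn (a : (sieveCat R).obj) : (Ψ.obj a).P.left ⟶ a.obj.left.left :=
  ((Ψ.obj a).π ≫ eqToHom (Ψ.w_obj a)).left

theorem sqn {a' a : (sieveCat R).obj} (m : a' ⟶ a) :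
    IsPullback (Ψ.map m).top.left (πn Ψ a') (πn Ψ a) m.hom.left.left := by
  haveI := isHomLift_map_sieve Ψ m
  obtain ⟨hA, hB, h⟩ := base_eq_of_isHomLift m.hom.left (Ψ.map m)
  exact (normSq (Ψ.map m) m.hom.left hA hB h).map (Over.forget S)

theorem map_comp_top_left {a'' a' a : (sieveCat R).obj} (m : a'' ⟶ a') (n : a' ⟶ a) :
    (Ψ.map (m ≫ n)).top.left = (Ψ.map m).top.left ≫ (Ψ.map n).top.left := by
  rw [Ψ.toFunctor.map_comp]
  rfl

end norm

variable {I : Type u} {V : I → Over S} (f : ∀ i, V i ⟶ T)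

/-- the object over `T` of a scheme point. -/
def bOf {T' : Scheme.{u}} (t : T' ⟶ T.left) : Over T :=
  Over.mk (Over.homMk t rfl : Over.mk (t ≫ T.hom) ⟶ T)

/-- a scheme point of a member as a morphism over `S`. -/
def xO {T' : Scheme.{u}} (t : T' ⟶ T.left) (i : I) (x : T' ⟶ (V i).left) (hx : x ≫ (f i).left = t) :
    Over.mk (t ≫ T.hom) ⟶ V i :=
  Over.homMk x (by
    change x ≫ (V i).hom = t ≫ T.hom
    rw [← hx, Category.assoc, Over.w (f i)])

theorem xO_comp {T' : Scheme.{u}} (t : T' ⟶ T.left) (i : I) (x : T' ⟶ (V i).left)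
    (hx : x ≫ (f i).left = t) : xO f t i x hx ≫ f i = (bOf t).hom := by
  apply Over.OverMorphism.ext
  exact hx

theorem bOf_mem {T' : Scheme.{u}} (t : T' ⟶ T.left) (i : I) (x : T' ⟶ (V i).left)
    (hx : x ≫ (f i).left = t) : (Sieve.ofArrows V f) (bOf t).hom := by
  rw [← xO_comp f t i x hx]
  exact (Sieve.ofArrows V f).downward_closed (Sieve.ofArrows_mk V f i) _

/-- the member as an object of the sieve category. -/
def aOf (i : I) : (sieveCat (Sieve.ofArrows V f)).obj := ⟨Over.mk (f i), Sieve.ofArrows_mk V f i⟩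

/-- the scheme point as an object of the sieve category. -/
def sOf {T' : Scheme.{u}} (t : T' ⟶ T.left) (h : (Sieve.ofArrows V f) (bOf t).hom) :
    (sieveCat (Sieve.ofArrows V f)).obj := ⟨bOf t, h⟩

/-- the morphism to the member. -/
def mOf {T' : Scheme.{u}} (t : T' ⟶ T.left) (h : (Sieve.ofArrows V f) (bOf t).hom) (i : I)
    (x : T' ⟶ (V i).left) (hx : x ≫ (f i).left = t) : sOf f t h ⟶ aOf f i :=
  ObjectProperty.homMk (Over.homMk (xO f t i x hx) (xO_comp f t i x hx))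

/-- the morphism induced by a morphism of schemes. -/
def nOf {T' T'' : Scheme.{u}} (t : T' ⟶ T.left) (h : (Sieve.ofArrows V f) (bOf t).hom)
    (g : T'' ⟶ T') (t'' : T'' ⟶ T.left) (ht : g ≫ t = t'') (h'' : (Sieve.ofArrows V f) (bOf t'').hom) :
    sOf f t'' h'' ⟶ sOf f t h :=
  ObjectProperty.homMk (Over.homMk (Over.homMk g (by
    change g ≫ t ≫ T.hom = t'' ≫ T.hom
    rw [← ht, Category.assoc])) (by
    apply Over.OverMorphism.ext
    exact ht))

theorem nOf_mOf {T' T'' : Scheme.{u}} (t : T' ⟶ T.left) (h : (Sieve.ofArrows V f) (bOf t).hom)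
    (g : T'' ⟶ T') (t'' : T'' ⟶ T.left) (ht : g ≫ t = t'') (h'' : (Sieve.ofArrows V f) (bOf t'').hom)
    (i : I) (x : T' ⟶ (V i).left) (hx : x ≫ (f i).left = t) (y : T'' ⟶ (V i).left) (hy : g ≫ x = y) :
    nOf f t h g t'' ht h'' ≫ mOf f t h i x hx =
      mOf f t'' h'' i y (by rw [← hy, Category.assoc, hx, ht]) := by
  apply ObjectProperty.hom_ext
  apply Over.OverMorphism.ext
  apply Over.OverMorphism.ext
  exact hy

variable (Ψ : sieveCat (Sieve.ofArrows V f) ⥤ᵇ QuotSt K G aX)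

/-- the scheme over a member of the family. -/
noncomputable def ddObj (i : I) : Over (V i).left := Over.mk (πn Ψ (aOf f i))

/-- sections of the torsor at a scheme point. -/
def Sec {T' : Scheme.{u}} (t : T' ⟶ T.left) (h : (Sieve.ofArrows V f) (bOf t).hom) : Type u :=
  {s : T' ⟶ (Ψ.obj (sOf f t h)).P.left // s ≫ πn Ψ (sOf f t h) = 𝟙 T'}

/-- points of the member torsor are sections. -/
noncomputable def secEquiv {T' : Scheme.{u}} (t : T' ⟶ T.left) (h : (Sieve.ofArrows V f) (bOf t).hom)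
    (i : I) (x : T' ⟶ (V i).left) (hx : x ≫ (f i).left = t) :
    Desc.Lifts (ddObj f Ψ i) x ≃ Sec f Ψ t h where
  toFun v := ⟨(sqn Ψ (mOf f t h i x hx)).lift v.1 (𝟙 T') (by
      rw [Category.id_comp]; exact v.2), (sqn Ψ (mOf f t h i x hx)).lift_snd _ _ _⟩
  invFun s := ⟨s.1 ≫ (Ψ.map (mOf f t h i x hx)).top.left, by
      change (s.1 ≫ (Ψ.map (mOf f t h i x hx)).top.left) ≫ πn Ψ (aOf f i) = x
      rw [Category.assoc, (sqn Ψ (mOf f t h i x hx)).w, ← Category.assoc, s.2, Category.id_comp]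
      rfl⟩
  left_inv v := Subtype.ext ((sqn Ψ (mOf f t h i x hx)).lift_fst _ _ _)
  right_inv s := Subtype.ext (by
    apply (sqn Ψ (mOf f t h i x hx)).hom_ext
    · rw [IsPullback.lift_fst]
    · rw [IsPullback.lift_snd]; exact s.2.symm)

theorem secEquiv_apply_top {T' : Scheme.{u}} (t : T' ⟶ T.left) (h : (Sieve.ofArrows V f) (bOf t).hom)
    (i : I) (x : T' ⟶ (V i).left) (hx : x ≫ (f i).left = t) (v : Desc.Lifts (ddObj f Ψ i) x) :
    (secEquiv f Ψ t h i x hx v).1 ≫ (Ψ.map (mOf f t h i x hx)).top.left = v.1 :=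
  (sqn Ψ (mOf f t h i x hx)).lift_fst _ _ _

theorem secEquiv_symm_val {T' : Scheme.{u}} (t : T' ⟶ T.left) (h : (Sieve.ofArrows V f) (bOf t).hom)
    (i : I) (x : T' ⟶ (V i).left) (hx : x ≫ (f i).left = t) (s : Sec f Ψ t h) :
    ((secEquiv f Ψ t h i x hx).symm s).1 = s.1 ≫ (Ψ.map (mOf f t h i x hx)).top.left := rfl

/-- naturality of `secEquiv`. -/
theorem secEquiv_nat {T' T'' : Scheme.{u}} (t : T' ⟶ T.left) (h : (Sieve.ofArrows V f) (bOf t).hom)
    (g : T'' ⟶ T') (t'' : T'' ⟶ T.left) (ht : g ≫ t = t'') (h'' : (Sieve.ofArrows V f) (bOf t'').hom)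
    (i : I) (x : T' ⟶ (V i).left) (hx : x ≫ (f i).left = t) (y : T'' ⟶ (V i).left) (hy : g ≫ x = y)
    (v : Desc.Lifts (ddObj f Ψ i) x) (v' : Desc.Lifts (ddObj f Ψ i) y) (hv : v'.1 = g ≫ v.1) :
    (secEquiv f Ψ t'' h'' i y (by rw [← hy, Category.assoc, hx, ht]) v').1 ≫
        (Ψ.map (nOf f t h g t'' ht h'')).top.left =
      g ≫ (secEquiv f Ψ t h i x hx v).1 := by
  apply (sqn Ψ (mOf f t h i x hx)).hom_ext
  · rw [Category.assoc, ← map_comp_top_left, nOf_mOf f t h g t'' ht h'' i x hx y hy,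
      secEquiv_apply_top, Category.assoc, secEquiv_apply_top, hv]
  · rw [Category.assoc, (sqn Ψ (nOf f t h g t'' ht h'')).w, ← Category.assoc]
    have e1 := (secEquiv f Ψ t'' h'' i y (by rw [← hy, Category.assoc, hx, ht]) v').2
    have e2 := (secEquiv f Ψ t h i x hx v).2
    rw [e1, Category.assoc, e2, Category.id_comp, Category.comp_id]
    rfl

/-- the gluing bijections. -/
noncomputable def ddφ {T' : Scheme.{u}} {i j : I} (x₀ : T' ⟶ (V i).left) (x₁ : T' ⟶ (V j).left)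
    (h : x₀ ≫ (f i).left = x₁ ≫ (f j).left) :
    Desc.Lifts (ddObj f Ψ i) x₀ ≃ Desc.Lifts (ddObj f Ψ j) x₁ :=
  (secEquiv f Ψ (x₀ ≫ (f i).left) (bOf_mem f _ i x₀ rfl) i x₀ rfl).trans
    (secEquiv f Ψ (x₀ ≫ (f i).left) (bOf_mem f _ i x₀ rfl) j x₁ h.symm).symm

theorem ddφ_eq {T' : Scheme.{u}} {i j : I} (x₀ : T' ⟶ (V i).left) (x₁ : T' ⟶ (V j).left)
    (t : T' ⟶ T.left) (h₀ : x₀ ≫ (f i).left = t) (h₁ : x₁ ≫ (f j).left = t)
    (ht : (Sieve.ofArrows V f) (bOf t).hom) :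
    ddφ f Ψ x₀ x₁ (h₀.trans h₁.symm) =
      (secEquiv f Ψ t ht i x₀ h₀).trans (secEquiv f Ψ t ht j x₁ h₁).symm := by
  subst h₀
  rfl

/-- the descent datum of schemes. -/
noncomputable def dd : Desc.SchDDFam (fun i => (f i).left) where
  obj := ddObj f Ψ
  φ T' i j x₀ x₁ h := ddφ f Ψ x₀ x₁ h
  φ_natural T' T'' g i j x₀ x₁ h y₀ y₁ hy₀ hy₁ h' v v' hv := by
    have ht : (Sieve.ofArrows V f) (bOf (x₀ ≫ (f i).left)).hom := bOf_mem f _ i x₀ rfl
    have ht'' : (Sieve.ofArrows V f) (bOf (y₀ ≫ (f i).left)).hom := bOf_mem f _ i y₀ rfl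
    have hg : g ≫ x₀ ≫ (f i).left = y₀ ≫ (f i).left := by rw [← hy₀, Category.assoc]
    rw [ddφ_eq f Ψ x₀ x₁ _ rfl h.symm ht, ddφ_eq f Ψ y₀ y₁ _ rfl h'.symm ht'']
    simp only [Equiv.trans_apply, secEquiv_symm_val]
    have key := secEquiv_nat f Ψ _ ht g _ hg ht'' i x₀ rfl y₀ hy₀ v v' hv
    have e : mOf f (y₀ ≫ (f i).left) ht'' j y₁ h'.symm =
        nOf f _ ht g _ hg ht'' ≫ mOf f _ ht j x₁ h.symm :=
      (nOf_mOf f _ ht g _ hg ht'' j x₁ h.symm y₁ hy₁).symm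
    rw [e, map_comp_top_left, ← Category.assoc, key, Category.assoc]
  φ_self T' i x v := by
    change ddφ f Ψ x x rfl v = v
    unfold ddφ
    simp
  φ_comp T' i j k x₀ x₁ x₂ h₀₁ h₁₂ v := by
    have ht : (Sieve.ofArrows V f) (bOf (x₀ ≫ (f i).left)).hom := bOf_mem f _ i x₀ rfl
    change ddφ f Ψ x₁ x₂ h₁₂ (ddφ f Ψ x₀ x₁ h₀₁ v) = ddφ f Ψ x₀ x₂ _ v
    rw [ddφ_eq f Ψ x₀ x₁ _ rfl h₀₁.symm ht, ddφ_eq f Ψ x₁ x₂ _ h₀₁.symm (h₀₁.trans h₁₂).symm ht,
      ddφ_eq f Ψ x₀ x₂ _ rfl (h₀₁.trans h₁₂).symm ht]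
    simp

end Groth.Agent.Helper19.QStk
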