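import Groth.Agent.Lib.Helper19.QStk.DD
import Groth.Agent.Lib.Helper21.DescA

/-!
# From a cone of the scheme descent datum to a cartesian family (helper19)
-/

set_option autoImplicit false
set_option backward.isDefEq.respectTransparency false
set_option backward.isDefEq.respectTransparency.types false

universe u

open CategoryTheory CategoryTheory.Limits MonoidalCategory CartesianMonoidalCategory MonObj GrpObj
  AlgebraicGeometry Opposite
open AlgSt FibCat Stk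

namespace Groth.Agent.Helper19.QStk

open Groth.Agent.Helper19.StkElem Groth.Agent.Helper21.DescA

variable {S : Scheme.{u}} {G : Over S} [GrpObj G] {X : Over S} {aX : AlgGrp.Action G X}
variable {K : Precoverage Scheme.{u}}
variable {T : Over S} {I : Type u} {V : I → Over S} (f : ∀ i, V i ⟶ T)
variable (Ψ : sieveCat (Sieve.ofArrows V f) ⥤ᵇ QuotSt K G aX)

/-- the morphism to a member given by a factorisation. -/
def mA (a : (sieveCat (Sieve.ofArrows V f)).obj) (i : I) (x : a.obj.left ⟶ V i)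
    (hx : x ≫ f i = a.obj.hom) : a ⟶ aOf f i :=
  ObjectProperty.homMk (Over.homMk x hx)

theorem exists_fac (a : (sieveCat (Sieve.ofArrows V f)).obj) :
    ∃ (i : I) (x : a.obj.left ⟶ V i), x ≫ f i = a.obj.hom := by
  obtain ⟨i, x, hx⟩ := (Sieve.mem_ofArrows_iff V f a.obj.hom).1 a.property
  exact ⟨i, x, hx.symm⟩

theorem mA_comp {a' a : (sieveCat (Sieve.ofArrows V f)).obj} (m : a' ⟶ a) (i : I)
    (x : a.obj.left ⟶ V i) (hx : x ≫ f i = a.obj.hom) :
    m ≫ mA f a i x hx = mA f a' i (m.hom.left ≫ x) (by rw [Category.assoc, hx, Over.w m.hom]) := by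
  apply ObjectProperty.hom_ext
  apply Over.OverMorphism.ext
  rfl

variable (c₀ : Cone (dd f Ψ))

/-- the map to the descended scheme given by a factorisation. -/
noncomputable def jA (a : (sieveCat (Sieve.ofArrows V f)).obj) (i : I) (x : a.obj.left ⟶ V i)
    (hx : x ≫ f i = a.obj.hom) : (Ψ.obj a).P.left ⟶ c₀.U.left :=
  (Ψ.map (mA f a i x hx)).top.left ≫ c₀.π i

theorem jA_indep (a : (sieveCat (Sieve.ofArrows V f)).obj) (i j : I) (x : a.obj.left ⟶ V i)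
    (hx : x ≫ f i = a.obj.hom) (x' : a.obj.left ⟶ V j) (hx' : x' ≫ f j = a.obj.hom) :
    jA f Ψ c₀ a i x hx = jA f Ψ c₀ a j x' hx' := by
  have hxl : x.left ≫ (f i).left = a.obj.hom.left := congrArg (fun k => k.left) hx
  have hxl' : x'.left ≫ (f j).left = a.obj.hom.left := congrArg (fun k => k.left) hx'
  have h : (πn Ψ a ≫ x.left) ≫ (f i).left = (πn Ψ a ≫ x'.left) ≫ (f j).left := by
    rw [Category.assoc, Category.assoc, hxl, hxl']
  let v : Desc.Lifts ((dd f Ψ).obj i) (πn Ψ a ≫ x.left) :=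
    ⟨(Ψ.map (mA f a i x hx)).top.left, (sqn Ψ (mA f a i x hx)).w⟩
  have key := c₀.inv (πn Ψ a ≫ x.left) (πn Ψ a ≫ x'.left) h v
  have ht : (Sieve.ofArrows V f) (bOf ((πn Ψ a ≫ x.left) ≫ (f i).left)).hom :=
    bOf_mem f _ i (πn Ψ a ≫ x.left) rfl
  -- the morphism from the point object to `a`
  have hw : πn Ψ a ≫ a.obj.left.hom = ((πn Ψ a ≫ x.left) ≫ (f i).left) ≫ T.hom := by
    calc πn Ψ a ≫ a.obj.left.hom = πn Ψ a ≫ a.obj.hom.left ≫ T.hom := by rw [Over.w a.obj.hom]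
      _ = πn Ψ a ≫ (x.left ≫ (f i).left) ≫ T.hom := by rw [hxl]
      _ = _ := by simp only [Category.assoc]
  let n : sOf f ((πn Ψ a ≫ x.left) ≫ (f i).left) ht ⟶ a :=
    ObjectProperty.homMk (Over.homMk (Over.homMk (πn Ψ a) hw) (by
      apply Over.OverMorphism.ext
      change πn Ψ a ≫ a.obj.hom.left = (πn Ψ a ≫ x.left) ≫ (f i).left
      rw [Category.assoc, hxl]))
  have hn1 : n ≫ mA f a i x hx = mOf f _ ht i (πn Ψ a ≫ x.left) rfl := by
    apply ObjectProperty.hom_ext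
    apply Over.OverMorphism.ext
    apply Over.OverMorphism.ext
    rfl
  have hn2 : n ≫ mA f a j x' hx' = mOf f _ ht j (πn Ψ a ≫ x'.left) h.symm := by
    apply ObjectProperty.hom_ext
    apply Over.OverMorphism.ext
    apply Over.OverMorphism.ext
    rfl
  have hφ : (dd f Ψ).φ (πn Ψ a ≫ x.left) (πn Ψ a ≫ x'.left) h v =
      (secEquiv f Ψ _ ht j (πn Ψ a ≫ x'.left) h.symm).symm
        (secEquiv f Ψ _ ht i (πn Ψ a ≫ x.left) rfl v) := rfl
  set s := secEquiv f Ψ _ ht i (πn Ψ a ≫ x.left) rfl v with hs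
  have hs1 : s.1 ≫ (Ψ.map (mOf f _ ht i (πn Ψ a ≫ x.left) rfl)).top.left = v.1 :=
    secEquiv_apply_top f Ψ _ ht i _ rfl v
  have hw1 : s.1 ≫ (Ψ.map n).top.left = 𝟙 _ := by
    apply (sqn Ψ (mA f a i x hx)).hom_ext
    · rw [Category.assoc, ← map_comp_top_left, hn1, hs1, Category.id_comp]
    · rw [Category.assoc, (sqn Ψ n).w, ← Category.assoc, s.2, Category.id_comp, Category.id_comp]
      rfl
  have hval : ((dd f Ψ).φ (πn Ψ a ≫ x.left) (πn Ψ a ≫ x'.left) h v).1 =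
      (Ψ.map (mA f a j x' hx')).top.left := by
    rw [hφ, secEquiv_symm_val, ← hn2, map_comp_top_left, ← Category.assoc, hw1, Category.id_comp]
  rw [hval] at key
  exact key.symm

/-- the map to the descended scheme. -/
noncomputable def jj (a : (sieveCat (Sieve.ofArrows V f)).obj) : (Ψ.obj a).P.left ⟶ c₀.U.left :=
  jA f Ψ c₀ a (exists_fac f a).choose (exists_fac f a).choose_spec.choose
    (exists_fac f a).choose_spec.choose_spec

theorem jj_eq (a : (sieveCat (Sieve.ofArrows V f)).obj) (i : I) (x : a.obj.left ⟶ V i)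
    (hx : x ≫ f i = a.obj.hom) : jj f Ψ c₀ a = jA f Ψ c₀ a i x hx :=
  jA_indep f Ψ c₀ a _ i _ _ x hx

theorem jj_nat {a' a : (sieveCat (Sieve.ofArrows V f)).obj} (m : a' ⟶ a) :
    (Ψ.map m).top.left ≫ jj f Ψ c₀ a = jj f Ψ c₀ a' := by
  obtain ⟨i, x, hx⟩ := exists_fac f a
  rw [jj_eq f Ψ c₀ a i x hx,
    jj_eq f Ψ c₀ a' i (m.hom.left ≫ x) (by rw [Category.assoc, hx, Over.w m.hom])]
  unfold jA
  rw [← mA_comp f m i x hx, map_comp_top_left, Category.assoc]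

theorem sqj (a : (sieveCat (Sieve.ofArrows V f)).obj) :
    IsPullback (jj f Ψ c₀ a) (πn Ψ a) c₀.U.hom a.obj.hom.left := by
  obtain ⟨i, x, hx⟩ := exists_fac f a
  rw [jj_eq f Ψ c₀ a i x hx]
  have hxl : x.left ≫ (f i).left = a.obj.hom.left := congrArg (fun k => k.left) hx
  have := (sqn Ψ (mA f a i x hx)).paste_horiz (c₀.isPullback i).flip
  rw [← hxl]
  exact this

/-- the descended total space as an `S`-scheme. -/
noncomputable def PO : Over S := Over.mk (c₀.U.hom ≫ T.hom)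

/-- its projection. -/
noncomputable def πO : PO f Ψ c₀ ⟶ T := Over.homMk c₀.U.hom rfl

/-- the normalised projection over `S`. -/
noncomputable def pO (a : (sieveCat (Sieve.ofArrows V f)).obj) : (Ψ.obj a).P ⟶ a.obj.left :=
  (Ψ.obj a).π ≫ eqToHom (Ψ.w_obj a)

theorem jj_w (a : (sieveCat (Sieve.ofArrows V f)).obj) :
    jj f Ψ c₀ a ≫ (PO f Ψ c₀).hom = (Ψ.obj a).P.hom := by
  change jj f Ψ c₀ a ≫ c₀.U.hom ≫ T.hom = _
  rw [← Category.assoc, (sqj f Ψ c₀ a).w, Category.assoc, Over.w a.obj.hom]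
  exact Over.w (pO f Ψ a)

/-- the map to the descended total space over `S`. -/
noncomputable def ιO (a : (sieveCat (Sieve.ofArrows V f)).obj) : (Ψ.obj a).P ⟶ PO f Ψ c₀ :=
  Over.homMk (jj f Ψ c₀ a) (jj_w f Ψ c₀ a)

theorem sqO (a : (sieveCat (Sieve.ofArrows V f)).obj) :
    IsPullback (ιO f Ψ c₀ a) (pO f Ψ a) (πO f Ψ c₀) a.obj.hom := by
  refine IsPullback.of_map (Over.forget S) ?_ (sqj f Ψ c₀ a)
  apply Over.OverMorphism.ext
  exact (sqj f Ψ c₀ a).w

theorem ιO_nat {a' a : (sieveCat (Sieve.ofArrows V f)).obj} (m : a' ⟶ a) :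
    (Ψ.map m).top ≫ ιO f Ψ c₀ a = ιO f Ψ c₀ a' := by
  apply Over.OverMorphism.ext
  exact jj_nat f Ψ c₀ m

theorem pO_nat {a' a : (sieveCat (Sieve.ofArrows V f)).obj} (m : a' ⟶ a) :
    (Ψ.map m).top ≫ pO f Ψ a = pO f Ψ a' ≫ m.hom.left :=
  map_top_p Ψ m

/-- the cartesian family of the descended total space. -/
noncomputable def F₀ : CartFam (Sieve.ofArrows V f) (πO f Ψ c₀) :=
  CartFam.mk (fun b hb => (Ψ.obj ⟨b, hb⟩).P) (fun b hb => ιO f Ψ c₀ ⟨b, hb⟩)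
    (fun b hb => pO f Ψ ⟨b, hb⟩) (fun b hb => sqO f Ψ c₀ ⟨b, hb⟩)

theorem tau_eq (b b' : Over T) (hb : (Sieve.ofArrows V f) b.hom) (hb' : (Sieve.ofArrows V f) b'.hom)
    (m : b' ⟶ b) (τ : (Ψ.obj ⟨b', hb'⟩).P ⟶ (Ψ.obj ⟨b, hb⟩).P)
    (h1 : τ ≫ ιO f Ψ c₀ ⟨b, hb⟩ = ιO f Ψ c₀ ⟨b', hb'⟩)
    (h2 : τ ≫ pO f Ψ ⟨b, hb⟩ = pO f Ψ ⟨b', hb'⟩ ≫ m.left) :
    τ = (Ψ.map (ObjectProperty.homMk m : (⟨b', hb'⟩ : (sieveCat (Sieve.ofArrows V f)).obj) ⟶ ⟨b, hb⟩)).top := by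
  apply (sqO f Ψ c₀ ⟨b, hb⟩).hom_ext
  · rw [h1, ιO_nat]
  · rw [h2, pO_nat]
    rfl

end Groth.Agent.Helper19.QStk
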