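import Groth.Agent.Lib.Helper19.QStk.Eff2
import Groth.Agent.Lib.Helper19.StkRefine
import Groth.Agent.Lib.Helper21.DescProp

/-!
# `[X/G]` is a stack for the fppf topology when `G ⟶ S` is affine (helper19)
-/

set_option autoImplicit false
set_option backward.isDefEq.respectTransparency false
set_option backward.isDefEq.respectTransparency.types false

universe u

open CategoryTheory CategoryTheory.Limits MonoidalCategory CartesianMonoidalCategory MonObj GrpObj
  AlgebraicGeometry Opposite
open AlgSt FibCat Stk

namespace Groth.Agent.Helper19.QStk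

open Groth.Agent.Helper19.StkElem Groth.Agent.Helper21.DescA

variable {S : Scheme.{u}} {G : Over S} [GrpObj G] {X : Over S} {aX : AlgGrp.Action G X}

theorem eff_family [IsAffineHom G.hom] {T : Over S} {I : Type u} {V : I → Over S} (f : ∀ i, V i ⟶ T)
    (hR : Sieve.ofArrows V f ∈ AlgSp.J S T)
    (hcov : Presieve.ofArrows (fun i => (V i).left) (fun i => (f i).left) ∈
      Scheme.fppfPrecoverage T.left) :
    Eff (Sieve.ofArrows V f) (QuotSt Scheme.fppfPrecoverage G aX) := by
  intro Ψ
  have hD : ∀ i, IsAffineHom ((dd f Ψ).obj i).hom := by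
    intro i
    change IsAffineHom (πn Ψ (aOf f i))
    unfold πn
    rw [Over.comp_left]
    haveI := isAffineHom_π (Ψ.obj (aOf f i))
    infer_instance
  have heff := Groth.Agent.Helper21.DescProp.affine_isEffective (fun i => (f i).left)
    (Scheme.fppfPrecoverage_le_fpqcPrecoverage _ hcov) (dd f Ψ) hD
  obtain ⟨c₀⟩ := nonempty_cone_of_isEffective heff
  exact eff_of_cone f Ψ c₀ hR hcov

theorem isStack [IsAffineHom G.hom] :
    Stk.IsStack (QuotSh.J Scheme.fppfPrecoverage S) (AlgSt.QuotSt Scheme.fppfPrecoverage G aX) := by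
  have hfib : IsFibGrpd (QuotSt Scheme.fppfPrecoverage G aX).p := isFibGrpd
  refine ⟨hfib, fun T R hR => ?_⟩
  obtain ⟨I, V, f, hfR, hcov, hR'⟩ := exists_small_family hR
  have hle : Sieve.ofArrows V f ≤ R := by
    rw [Sieve.generate_le_iff]
    rintro W g ⟨i⟩
    exact hfR i
  refine Groth.Agent.Helper19.StkRefine.isStackFor_of_le hfib hle ?_ ?_
  · exact isStackFor_of_eff_uniq hfib (eff_family f hR' hcov) (uniq hR')
  · intro W g hg
    exact isPrestackFor_of_uniq hfib (uniq ((AlgSp.J S).pullback_stable g hR'))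

end Groth.Agent.Helper19.QStk
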