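import Groth.Agent.Lib.Helper18.QuotCart
import Groth.Agent.Lib.Helper19.QStk.Colim

/-!
# `[X/G]` is fibred in groupoids (helper19)
-/

set_option autoImplicit false
set_option backward.isDefEq.respectTransparency false
set_option backward.isDefEq.respectTransparency.types false

universe u

open CategoryTheory CategoryTheory.Limits MonoidalCategory CartesianMonoidalCategory MonObj GrpObj
  AlgebraicGeometry Opposite
open AlgSt FibCat

namespace Groth.Agent.Helper19.QStk

variable {S : Scheme.{u}} {G : Over S} [GrpObj G] {X : Over S} {aX : AlgGrp.Action G X}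
variable {K : Precoverage Scheme.{u}}

section pull

variable (A : QuotObj K G aX) {V : Over S} (f : V ⟶ A.base)

theorem pull_w : ((G ◁ pullback.fst A.π f) ≫ A.act.act) ≫ A.π =
    (snd G (pullback A.π f) ≫ pullback.snd A.π f) ≫ f := by
  rw [Category.assoc, A.cart.w, whiskerLeft_snd_assoc, Category.assoc, pullback.condition]

/-- the pulled-back action. -/
noncomputable def pullAct : G ⊗ pullback A.π f ⟶ pullback A.π f :=
  pullback.lift ((G ◁ pullback.fst A.π f) ≫ A.act.act) (snd G _ ≫ pullback.snd A.π f) (pull_w A f)

theorem pullAct_fst : pullAct A f ≫ pullback.fst A.π f = (G ◁ pullback.fst A.π f) ≫ A.act.act :=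
  pullback.lift_fst _ _ _

theorem pullAct_snd : pullAct A f ≫ pullback.snd A.π f = snd G _ ≫ pullback.snd A.π f :=
  pullback.lift_snd _ _ _

/-- the pulled-back torsor. -/
noncomputable def pullObj [K.IsStableUnderBaseChange] : QuotObj K G aX where
  base := V
  P := pullback A.π f
  act :=
    { act := pullAct A f
      one_act := by
        apply pullback.hom_ext
        · rw [Category.assoc, pullAct_fst, ← whisker_exchange_assoc, A.act.one_act,
            leftUnitor_naturality]
        · rw [Category.assoc, pullAct_snd, whiskerRight_snd_assoc, leftUnitor_hom]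
      mul_act := by
        apply pullback.hom_ext
        · simp only [Category.assoc, pullAct_fst]
          rw [← whisker_exchange_assoc, A.act.mul_act, ← MonoidalCategory.whiskerLeft_comp_assoc,
            pullAct_fst, MonoidalCategory.whiskerLeft_comp, Category.assoc,
            associator_naturality_right_assoc]
        · simp only [Category.assoc, pullAct_snd]
          rw [whiskerRight_snd_assoc, whiskerLeft_snd_assoc, pullAct_snd, associator_hom_snd_snd_assoc] }
  π := pullback.snd A.π f
  cart := by
    have h0 : IsPullback ((G ◁ pullback.fst A.π f) ≫ A.act.act) (snd G (pullback A.π f)) A.π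
        (pullback.fst A.π f ≫ A.π) :=
      (isPullback_whiskerLeft G (pullback.fst A.π f)).paste_horiz A.cart
    rw [← pullAct_fst, pullback.condition] at h0
    exact IsPullback.of_right h0 (pullAct_snd A f) (IsPullback.of_hasPullback A.π f)
  loc := by
    obtain ⟨R, hR, hsec⟩ := A.loc
    refine ⟨R.pullbackArrows f.left, Precoverage.pullbackArrows_mem f.left hR, ?_⟩
    rintro T g ⟨Z, u, hu⟩
    obtain ⟨s, hs⟩ := hsec u hu
    have hs' : s ≫ A.π.left = u := hs
    have sq : IsPullback (pullback.fst A.π f).left (pullback.snd A.π f).left A.π.left f.left :=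
      (IsPullback.of_hasPullback A.π f).map (Over.forget S)
    refine ⟨sq.lift (pullback.fst u f.left ≫ s) (pullback.snd u f.left)
      (by rw [Category.assoc, hs', pullback.condition]), ?_⟩
    exact sq.lift_snd _ _ _
  φ := pullback.fst A.π f ≫ A.φ
  eqv := by
    rw [← Category.assoc, pullAct_fst, Category.assoc, A.eqv, MonoidalCategory.whiskerLeft_comp_assoc]

/-- the cartesian morphism. -/
noncomputable def pullHom [K.IsStableUnderBaseChange] : pullObj A f ⟶ A where
  base := f
  top := pullback.fst A.π f
  eqv := pullAct_fst A f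
  cart := IsPullback.of_hasPullback A.π f
  wφ := rfl

end pull

theorem base_eq_of_isHomLift {A B : QuotObj K G aX} {V T : Over S} (f : V ⟶ T) (φ : A ⟶ B)
    [h : (QuotSt K G aX).p.IsHomLift f φ] :
    ∃ (hA : A.base = V) (hB : B.base = T), φ.base = eqToHom hA ≫ f ≫ eqToHom hB.symm :=
  ⟨IsHomLift.domain_eq (QuotSt K G aX).p f φ, IsHomLift.codomain_eq (QuotSt K G aX).p f φ,
    IsHomLift.fac' (QuotSt K G aX).p f φ⟩

theorem isHomLift_of_base {A B : QuotObj K G aX} {V T : Over S} (f : V ⟶ T) (φ : A ⟶ B)
    (hA : A.base = V) (hB : B.base = T) (hφ : φ.base = eqToHom hA ≫ f ≫ eqToHom hB.symm) :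
    (QuotSt K G aX).p.IsHomLift f φ := by
  subst hA hB
  simp only [eqToHom_refl, Category.id_comp, Category.comp_id] at hφ
  subst hφ
  exact IsHomLift.map (QuotSt K G aX).p φ

theorem isFibGrpd [K.IsStableUnderBaseChange] : IsFibGrpd (QuotSt K G aX).p where
  exists_lift {x V} f := by
    refine ⟨pullObj x f, pullHom x f, ?_⟩
    exact IsHomLift.map (QuotSt K G aX).p (pullHom x f)
  isStronglyCartesian {y x} φ :=
    { toIsHomLift := IsHomLift.map (QuotSt K G aX).p φ
      universal_property' := by
        intro C g φ' hφ'
        have h1 := IsHomLift.fac (QuotSt K G aX).p (g ≫ (QuotSt K G aX).p.map φ) φ'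
        simp only [eqToHom_refl, Category.id_comp, Category.comp_id] at h1
        have h1' : g ≫ φ.base = φ'.base := h1
        obtain ⟨k, hk1, hk2⟩ := Groth.Agent.Helper18.QuotCart.exists_lift φ φ' g h1'
        refine ⟨k, ⟨?_, hk2⟩, ?_⟩
        · subst hk1
          exact IsHomLift.map (QuotSt K G aX).p k
        · rintro k' ⟨hk', hk2'⟩
          have e : k'.base = g := by
            have := IsHomLift.fac (QuotSt K G aX).p g k'
            simp only [eqToHom_refl, Category.id_comp, Category.comp_id] at this
            exact this.symm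
          exact Groth.Agent.Helper18.QuotCart.lift_unique φ k' k (e.trans hk1.symm) (hk2'.trans hk2.symm) }

end Groth.Agent.Helper19.QStk
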