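import Groth.Agent.Lib.Helper19.QStk.Pull
import Groth.Agent.Lib.Helper19.StkElem

/-!
# Morphisms of `[X/G]` glue along fppf covering sieves (helper19)
-/

set_option autoImplicit false
set_option backward.isDefEq.respectTransparency false
set_option backward.isDefEq.respectTransparency.types false

universe v u

open CategoryTheory CategoryTheory.Limits MonoidalCategory CartesianMonoidalCategory MonObj GrpObj
  AlgebraicGeometry Opposite
open AlgSt FibCat Stk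

namespace Groth.Agent.Helper19.QStk

open Groth.Agent.Helper19.StkElem Groth.Agent.Helper19.FibLib

section general

variable {C : Type u} [Category.{v} C] {𝒳 : BasedCategory.{v, max u v} C} {U : C} {R : Sieve U}

theorem isPrestackFor_of_uniq (h𝒳 : IsFibGrpd 𝒳.p) (hU : Uniq R 𝒳) : IsPrestackFor R 𝒳 := by
  have heq := Groth.Agent.S6409.result h𝒳 U
  have hfaith : (resSieve R 𝒳).Faithful := by
    constructor
    intro Φ₁ Φ₂ β β' hββ'
    apply (evalAtId 𝒳 U).map_injective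
    apply Subtype.ext
    change β.toNatTrans.app (Over.mk (𝟙 U)) = β'.toNatTrans.app (Over.mk (𝟙 U))
    obtain ⟨h, -, huniq⟩ := hU _ _ _ (chartCocone (R := R) Φ₁)
      ((chartCocone (R := R) Φ₂).precomp ((resSieve R 𝒳).map β))
    have e1 : β.toNatTrans.app (Over.mk (𝟙 U)) = h := by
      apply huniq
      refine ⟨β.isHomLift' (Over.mk (𝟙 U)), fun a => ?_⟩
      exact β.toNatTrans.naturality (toId a.obj)
    have e2 : β'.toNatTrans.app (Over.mk (𝟙 U)) = h := by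
      apply huniq
      refine ⟨β'.isHomLift' (Over.mk (𝟙 U)), fun a => ?_⟩
      rw [hββ']
      exact β'.toNatTrans.naturality (toId a.obj)
    rw [e1, e2]
  have hfull : (resSieve R 𝒳).Full := by
    constructor
    intro Φ₁ Φ₂ α
    obtain ⟨h, ⟨hh1, hh2⟩, -⟩ := hU _ _ _ (chartCocone (R := R) Φ₁) ((chartCocone (R := R) Φ₂).precomp α)
    obtain ⟨β, hβ⟩ := (evalAtId 𝒳 U).map_surjective
      (⟨h, hh1⟩ : (evalAtId 𝒳 U).obj Φ₁ ⟶ (evalAtId 𝒳 U).obj Φ₂)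
    have hβ' : β.toNatTrans.app (Over.mk (𝟙 U)) = h := congrArg Subtype.val hβ
    refine ⟨β, ?_⟩
    apply BasedNatTrans.homCategory.ext
    ext a
    change β.toNatTrans.app a.obj = α.toNatTrans.app a
    have l1 := isHomLift_map_toId Φ₂ a.obj
    have l2 : 𝒳.p.IsHomLift (𝟙 a.obj.left) (β.toNatTrans.app a.obj) := β.isHomLift' a.obj
    have l3 : 𝒳.p.IsHomLift (𝟙 a.obj.left) (α.toNatTrans.app a) := α.isHomLift' a
    apply hom_ext_of_comp_eq h𝒳 a.obj.hom (Φ₂.map (toId a.obj)) (𝟙 a.obj.left)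
    have n := β.toNatTrans.naturality (toId a.obj)
    have n' : Φ₁.map (toId a.obj) ≫ β.toNatTrans.app (Over.mk (𝟙 U)) =
        β.toNatTrans.app a.obj ≫ Φ₂.map (toId a.obj) := n
    rw [← n', hβ']
    exact hh2 a
  exact ⟨hfull, hfaith⟩

end general

variable {S : Scheme.{u}} {G : Over S} [GrpObj G] {X : Over S} {aX : AlgGrp.Action G X}
variable {K : Precoverage Scheme.{u}}

theorem normSq {A B : QuotObj K G aX} (φ : A ⟶ B) {V T : Over S} (f : V ⟶ T) (hA : A.base = V)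
    (hB : B.base = T) (hφ : φ.base = eqToHom hA ≫ f ≫ eqToHom hB.symm) :
    IsPullback φ.top (A.π ≫ eqToHom hA) (B.π ≫ eqToHom hB) f := by
  subst hA hB
  simp only [eqToHom_refl, Category.id_comp, Category.comp_id] at hφ ⊢
  rw [← hφ]
  exact φ.cart

variable {T : Over S} {R : Sieve T} (Ψ : sieveCat R ⥤ᵇ QuotSt K G aX)

section cocone

variable {x : QuotObj K G aX} (c : Cocone Ψ x)

/-- the cartesian family of a cocone. -/
noncomputable def cartFam : CartFam R (x.π ≫ eqToHom c.base) :=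
  CartFam.mk (fun b hb => (Ψ.obj ⟨b, hb⟩).P) (fun b hb => (c.lam ⟨b, hb⟩).top)
    (fun b hb => (Ψ.obj ⟨b, hb⟩).π ≫ eqToHom (Ψ.w_obj ⟨b, hb⟩)) (fun b hb => by
      haveI := c.lift ⟨b, hb⟩
      obtain ⟨hA, hB, h⟩ := base_eq_of_isHomLift b.hom (c.lam ⟨b, hb⟩)
      exact normSq (c.lam ⟨b, hb⟩) b.hom hA hB h)

theorem map_top_ι {a' a : (sieveCat R).obj} (m : a' ⟶ a) :
    (Ψ.map m).top ≫ (c.lam a).top = (c.lam a').top :=
  congrArg QuotObj.Hom.top (c.nat m)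

end cocone

theorem map_top_p {a' a : (sieveCat R).obj} (m : a' ⟶ a) :
    (Ψ.map m).top ≫ (Ψ.obj a).π ≫ eqToHom (Ψ.w_obj a) =
      ((Ψ.obj a').π ≫ eqToHom (Ψ.w_obj a')) ≫ m.hom.left := by
  haveI := isHomLift_map_sieve Ψ m
  obtain ⟨hA, hB, h⟩ := base_eq_of_isHomLift m.hom.left (Ψ.map m)
  exact (normSq (Ψ.map m) m.hom.left hA hB h).w

theorem lam_base {x : QuotObj K G aX} (c : Cocone Ψ x) (a : (sieveCat R).obj) :
    (c.lam a).base = eqToHom (Ψ.w_obj a) ≫ a.obj.hom ≫ eqToHom c.base.symm := by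
  haveI := c.lift a
  obtain ⟨hA, hB, h⟩ := base_eq_of_isHomLift a.obj.hom (c.lam a)
  exact h

theorem exists_top (hR : R ∈ AlgSp.J S T) {x x' : QuotObj K G aX} (c : Cocone Ψ x) (c' : Cocone Ψ x') :
    ∃ h : x.P ⟶ x'.P, ∀ a, (c.lam a).top ≫ h = (c'.lam a).top := by
  obtain ⟨h, hh⟩ := (cartFam Ψ c).desc hR (Z := x'.P) (fun b hb => (c'.lam ⟨b, hb⟩).top) (by
    intro b b' hb hb' m τ h1 h2
    let m' : (⟨b', hb'⟩ : (sieveCat R).obj) ⟶ ⟨b, hb⟩ := ObjectProperty.homMk m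
    have e : τ = (Ψ.map m').top := by
      apply ((cartFam Ψ c).sq b hb).hom_ext
      · rw [h1]; exact (map_top_ι Ψ c m').symm
      · rw [h2]; exact (map_top_p Ψ m').symm
    rw [e]
    exact map_top_ι Ψ c' m')
  exact ⟨h, fun a => hh a.obj a.property⟩

theorem uniq (hR : R ∈ AlgSp.J S T) : Uniq R (QuotSt K G aX) := by
  intro Ψ x x' c c'
  obtain ⟨h, hh⟩ := exists_top Ψ hR c c'
  obtain ⟨k, hk⟩ := exists_top Ψ hR c' c
  have hhk : h ≫ k = 𝟙 _ := (cartFam Ψ c).joint_epi hR _ _ (fun b hb => by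
    change (c.lam ⟨b, hb⟩).top ≫ h ≫ k = (c.lam ⟨b, hb⟩).top ≫ 𝟙 _
    rw [← Category.assoc, hh, hk, Category.comp_id])
  have hkh : k ≫ h = 𝟙 _ := (cartFam Ψ c').joint_epi hR _ _ (fun b hb => by
    change (c'.lam ⟨b, hb⟩).top ≫ k ≫ h = (c'.lam ⟨b, hb⟩).top ≫ 𝟙 _
    rw [← Category.assoc, hk, hh, Category.comp_id])
  haveI : IsIso h := ⟨⟨k, hhk, hkh⟩⟩
  have hbase : x.base = x'.base := c.base.trans c'.base.symm
  have hb2 : ∀ a, (c.lam a).base ≫ eqToHom hbase = (c'.lam a).base := by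
    intro a
    rw [lam_base Ψ c a, lam_base Ψ c' a]
    simp
  have hπ : h ≫ x'.π = x.π ≫ eqToHom hbase := by
    apply (cartFam Ψ c).joint_epi hR
    intro b hb
    change (c.lam ⟨b, hb⟩).top ≫ h ≫ x'.π = (c.lam ⟨b, hb⟩).top ≫ x.π ≫ eqToHom hbase
    rw [← Category.assoc, hh, (c'.lam ⟨b, hb⟩).cart.w, (c.lam ⟨b, hb⟩).cart.w_assoc, hb2]
  have heqv : x.act.act ≫ h = (G ◁ h) ≫ x'.act.act := by
    apply ((cartFam Ψ c).whisker G).joint_epi hR
    intro b hb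
    change (G ◁ (c.lam ⟨b, hb⟩).top) ≫ x.act.act ≫ h = (G ◁ (c.lam ⟨b, hb⟩).top) ≫ (G ◁ h) ≫ x'.act.act
    rw [← Category.assoc, ← (c.lam ⟨b, hb⟩).eqv, Category.assoc, hh,
      ← MonoidalCategory.whiskerLeft_comp_assoc, hh, (c'.lam ⟨b, hb⟩).eqv]
  have hφ : h ≫ x'.φ = x.φ := by
    apply (cartFam Ψ c).joint_epi hR
    intro b hb
    change (c.lam ⟨b, hb⟩).top ≫ h ≫ x'.φ = (c.lam ⟨b, hb⟩).top ≫ x.φ
    rw [← Category.assoc, hh, (c'.lam ⟨b, hb⟩).wφ, (c.lam ⟨b, hb⟩).wφ]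
  let H : x ⟶ x' :=
    { base := eqToHom hbase
      top := h
      eqv := heqv
      cart := IsPullback.of_horiz_isIso ⟨hπ⟩
      wφ := hφ }
  have hH : (QuotSt K G aX).p.IsHomLift (𝟙 T) H :=
    isHomLift_of_base (𝟙 T) H c.base c'.base (by simp [H])
  refine ⟨H, ⟨hH, fun a => ?_⟩, ?_⟩
  · apply QuotObj.hom_ext
    · exact hb2 a
    · exact hh a
  · rintro H' ⟨hH', hc'⟩
    apply QuotObj.hom_ext
    · obtain ⟨hA, hB, e⟩ := base_eq_of_isHomLift (𝟙 T) H'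
      rw [e]
      simp [H]
    · apply (cartFam Ψ c).joint_epi hR
      intro b hb
      change (c.lam ⟨b, hb⟩).top ≫ H'.top = (c.lam ⟨b, hb⟩).top ≫ h
      rw [hh]
      exact congrArg QuotObj.Hom.top (hc' ⟨b, hb⟩)

end Groth.Agent.Helper19.QStk
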